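import Mathlib.FieldTheory.AbsoluteGaloisGroup
import Mathlib.FieldTheory.Galois.Profinite
import Mathlib.FieldTheory.PurelyInseparable.Basic

/-!
# Automorphisms of an algebraic closure: determined by separable elements; compactness
-/

universe u

noncomputable section

namespace Groth.Agent.GalField.Basic

variable (K : Type u) [Field K]

local notation "Kbar" => AlgebraicClosure K
local notation "Ks" => separableClosure K (AlgebraicClosure K)

theorem exists_pow_mem (x : Kbar) :
    ∃ n : ℕ, x ^ (ringExpChar K) ^ n ∈ Ks ∧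
      ∀ σ τ : Kbar ≃ₐ[K] Kbar, σ (x ^ (ringExpChar K) ^ n) = τ (x ^ (ringExpChar K) ^ n) → σ x = τ x := by
  have : ExpChar K (ringExpChar K) := inferInstance
  have : ExpChar Ks (ringExpChar K) := expChar_of_injective_algebraMap (algebraMap K Ks).injective _
  have : ExpChar Kbar (ringExpChar K) := expChar_of_injective_algebraMap (algebraMap K Kbar).injective _
  obtain ⟨n, y, hy⟩ := IsPurelyInseparable.pow_mem Ks (ringExpChar K) x
  refine ⟨n, hy ▸ y.2, fun σ τ h => ?_⟩
  rw [map_pow, map_pow] at h
  exact iterateFrobenius_inj Kbar (ringExpChar K) n (by simpa [iterateFrobenius_def] using h)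

theorem eq_of_eq_on_separable (σ τ : Kbar ≃ₐ[K] Kbar) (h : ∀ x ∈ Ks, σ x = τ x) : σ = τ :=
  AlgEquiv.ext fun x => by
    obtain ⟨n, hn, key⟩ := exists_pow_mem K x
    exact key σ τ (h _ hn)

/-- Restriction to the separable closure. -/
def res : (Kbar ≃ₐ[K] Kbar) →* (Ks ≃ₐ[K] Ks) := AlgEquiv.restrictNormalHom Ks

theorem res_apply (σ : Kbar ≃ₐ[K] Kbar) (x : Ks) : (res K σ x : Kbar) = σ x :=
  AlgEquiv.restrictNormal_commutes σ Ks x

theorem res_bijective : Function.Bijective (res K) :=
  ⟨(injective_iff_map_eq_one (res K)).mpr fun σ hσ => eq_of_eq_on_separable K σ 1 fun x hx => by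
      rw [← res_apply K σ ⟨x, hx⟩, hσ]; rfl,
    AlgEquiv.restrictNormalHom_surjective (F := K) (K₁ := Ks) (E := Kbar)⟩

theorem res_symm_continuous : Continuous (MulEquiv.ofBijective (res K) (res_bijective K)).symm := by
  refine continuous_of_continuousAt_one _ ?_
  rw [ContinuousAt, map_one]
  intro A hA
  obtain ⟨L, hL, hsub⟩ := (krullTopology_mem_nhds_one_iff K Kbar A).mp hA
  choose m hm key using fun x : Kbar => exists_pow_mem K x
  let b := Module.Finite.exists_fin (R := K) (M := L)
  obtain ⟨n, s, hs⟩ := b
  let t : Fin n → Ks := fun i => ⟨_, hm (s i : Kbar)⟩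
  let M : IntermediateField K Ks := IntermediateField.adjoin K (Set.range t)
  have : FiniteDimensional K M :=
    IntermediateField.finiteDimensional_adjoin fun x _ => Algebra.IsIntegral.isIntegral x
  refine Filter.mem_map.mpr (Filter.mem_of_superset (M.fixingSubgroup_isOpen.mem_nhds (one_mem _)) fun σ hσ => ?_)
  set τ := (MulEquiv.ofBijective (res K) (res_bijective K)).symm σ with hτdef
  have hτ : res K τ = σ := (MulEquiv.ofBijective (res K) (res_bijective K)).apply_symm_apply σ
  refine hsub fun x => ?_
  change τ (x : Kbar) = x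
  have h : ∀ i, τ (s i : Kbar) = s i := fun i => key _ τ 1 (by
    have h1 : σ (t i) = t i := hσ ⟨t i, IntermediateField.subset_adjoin K _ ⟨i, rfl⟩⟩
    exact (res_apply K τ (t i)).symm.trans (congrArg Subtype.val (hτ.symm ▸ h1)))
  have hx : (⟨(x : Kbar), x.2⟩ : L) ∈ Submodule.span K (Set.range s) := hs ▸ trivial
  let eq : Submodule K L := LinearMap.eqLocus (τ.toLinearMap.comp L.val.toLinearMap) L.val.toLinearMap
  have hle : Submodule.span K (Set.range s) ≤ eq := Submodule.span_le.mpr (by
    rintro _ ⟨i, rfl⟩
    exact h i)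
  exact hle hx

instance compactSpace_algEquiv : CompactSpace (Kbar ≃ₐ[K] Kbar) := by
  have h := res_symm_continuous K
  have := isCompact_range h
  rw [(MulEquiv.ofBijective (res K) (res_bijective K)).symm.surjective.range_eq] at this
  exact isCompact_univ_iff.mp this

instance compactSpace : CompactSpace (Field.absoluteGaloisGroup K) := compactSpace_algEquiv K

end Groth.Agent.GalField.Basic
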