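import Groth.Agent.GalField.Basic
import Groth.Agent.FEtCat.Galois
import Mathlib.CategoryTheory.Galois.IsFundamentalgroup
import Mathlib.AlgebraicGeometry.Artinian
import Mathlib.AlgebraicGeometry.Morphisms.QuasiFinite

/-!
# The absolute Galois group is a fundamental group of the finite étale covers of a field
-/

set_option backward.isDefEq.respectTransparency.types false

universe u

open CategoryTheory CategoryTheory.Limits AlgebraicGeometry
open scoped CategoryTheory.PreGaloisCategory

noncomputable section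

namespace Groth.Agent.GalField.Fundamental

open Groth.Agent.FEtCat

variable (K : Type u) [Field K]

local notation "Kbar" => AlgebraicClosure K

/-- The geometric point. -/
abbrev pt : Spec (CommRingCat.of Kbar) ⟶ Spec (CommRingCat.of K) :=
  Spec.map (CommRingCat.ofHom (algebraMap K (AlgebraicClosure K)))

/-- The underlying automorphism. -/
abbrev aut (σ : Field.absoluteGaloisGroup K) : AlgebraicClosure K ≃ₐ[K] AlgebraicClosure K := σ

/-- The absolute Galois group acts on fibres. -/
instance (Y : FEt.Cat (Spec (CommRingCat.of K))) :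
    MulAction (Field.absoluteGaloisGroup K) ((Basic.fibre (pt K)).obj Y) where
  smul σ s := ⟨Spec.map (CommRingCat.ofHom ((aut K σ).toRingEquiv.toRingHom)) ≫ s.1, by
    rw [Category.assoc, s.2, ← Spec.map_comp]
    congr 1
    exact CommRingCat.hom_ext (RingHom.ext fun x => (aut K σ).commutes x)⟩
  one_smul s := Subtype.ext (by
    change Spec.map (CommRingCat.ofHom (1 : Kbar ≃ₐ[K] Kbar).toRingEquiv.toRingHom) ≫ s.1 = s.1
    rw [show CommRingCat.ofHom (1 : Kbar ≃ₐ[K] Kbar).toRingEquiv.toRingHom = 𝟙 (CommRingCat.of Kbar) from rfl,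
      Spec.map_id, Category.id_comp])
  mul_smul σ τ s := Subtype.ext (by
    change Spec.map (CommRingCat.ofHom (aut K σ * aut K τ).toRingEquiv.toRingHom) ≫ s.1 =
      Spec.map (CommRingCat.ofHom (aut K σ).toRingEquiv.toRingHom) ≫
        Spec.map (CommRingCat.ofHom (aut K τ).toRingEquiv.toRingHom) ≫ s.1
    rw [← Category.assoc, ← Spec.map_comp]
    rfl)

/-- The action, on points. -/
abbrev act {Y : FEt.Cat (Spec (CommRingCat.of K))} (σ : Field.absoluteGaloisGroup K)
    (s : FEt.fiberObj (pt K) Y) : FEt.fiberObj (pt K) Y :=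
  (σ • (show (Basic.fibre (pt K)).obj Y from s))

theorem smul_val {Y : FEt.Cat (Spec (CommRingCat.of K))} (σ : Field.absoluteGaloisGroup K)
    (s : FEt.fiberObj (pt K) Y) :
    (act K σ s).1 =
      Spec.map (CommRingCat.ofHom ((aut K σ).toRingEquiv.toRingHom)) ≫ s.1 := rfl

instance : PreGaloisCategory.IsNaturalSMul (Basic.fibre (pt K)) (Field.absoluteGaloisGroup K) where
  naturality σ {Y Z} f s := Subtype.ext (Category.assoc _ _ _)

/-- The structure morphism. -/
abbrev hom' (Y : FEt.Cat (Spec (CommRingCat.of K))) : Y.left ⟶ Spec (CommRingCat.of K) := Y.hom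

/-- The structure map on global functions. -/
def str (Y : FEt.Cat (Spec (CommRingCat.of K))) : K →+* Γ(Y.left, ⊤) :=
  ((Scheme.ΓSpecIso (CommRingCat.of K)).inv ≫ (hom' K Y).appTop).hom

instance (Y : FEt.Cat (Spec (CommRingCat.of K))) : IsAffine Y.left := isAffine_of_isAffineHom (hom' K Y)

theorem isoSpec_inv_hom (Y : FEt.Cat (Spec (CommRingCat.of K))) :
    Y.left.isoSpec.inv ≫ hom' K Y = Spec.map (CommRingCat.ofHom (str K Y)) := by
  rw [Iso.inv_comp_eq]
  change _ = _ ≫ Spec.map ((Scheme.ΓSpecIso (CommRingCat.of K)).inv ≫ (hom' K Y).appTop)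
  rw [Spec.map_comp, Scheme.isoSpec_hom_naturality_assoc]
  simp [Scheme.isoSpec_Spec_hom, ← Spec.map_comp]

/-- The ring map of a geometric point. -/
def ev {Y : FEt.Cat (Spec (CommRingCat.of K))} (s : FEt.fiberObj (pt K) Y) : Γ(Y.left, ⊤) →+* Kbar :=
  (Spec.preimage (s.1 ≫ Y.left.isoSpec.hom)).hom

theorem spec_ev {Y : FEt.Cat (Spec (CommRingCat.of K))} (s : FEt.fiberObj (pt K) Y) :
    Spec.map (CommRingCat.ofHom (ev K s)) ≫ Y.left.isoSpec.inv = s.1 := by
  rw [show CommRingCat.ofHom (ev K s) = Spec.preimage (s.1 ≫ Y.left.isoSpec.hom) from rfl, Spec.map_preimage,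
    Category.assoc, Iso.hom_inv_id, Category.comp_id]

theorem ev_str {Y : FEt.Cat (Spec (CommRingCat.of K))} (s : FEt.fiberObj (pt K) Y) (k : K) :
    ev K s (str K Y k) = algebraMap K Kbar k := by
  have h : Spec.map (CommRingCat.ofHom (str K Y) ≫ CommRingCat.ofHom (ev K s)) = pt K := by
    rw [Spec.map_comp, ← isoSpec_inv_hom, ← Category.assoc, spec_ev]
    exact s.2
  exact RingHom.congr_fun (congrArg CommRingCat.Hom.hom (Spec.map_injective h)) k

theorem ev_injective {Y : FEt.Cat (Spec (CommRingCat.of K))} {s t : FEt.fiberObj (pt K) Y}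
    (h : ev K s = ev K t) : s = t :=
  Subtype.ext (by rw [← spec_ev K s, ← spec_ev K t, h])

theorem ev_smul {Y : FEt.Cat (Spec (CommRingCat.of K))} (σ : Field.absoluteGaloisGroup K)
    (s : FEt.fiberObj (pt K) Y) (a : Γ(Y.left, ⊤)) :
    ev K (act K σ s) a = aut K σ (ev K s a) := by
  have h : Spec.map (CommRingCat.ofHom (ev K s) ≫ CommRingCat.ofHom (aut K σ).toRingEquiv.toRingHom) =
      (act K σ s).1 ≫ Y.left.isoSpec.hom := by
    rw [Spec.map_comp, smul_val, Category.assoc]
    congr 1
    conv_rhs => rw [← spec_ev K s, Category.assoc, Iso.inv_hom_id, Category.comp_id]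
  have h2 := Spec.map_injective (h.trans (Spec.map_preimage _).symm)
  exact (RingHom.congr_fun (congrArg CommRingCat.Hom.hom h2) a).symm

instance continuousSMul (Y : FEt.Cat (Spec (CommRingCat.of K))) :
    ContinuousSMul (Field.absoluteGaloisGroup K) ((Basic.fibre (pt K)).obj Y) := by
  refine continuousSMul_iff_stabilizer_isOpen.mpr fun s => ?_
  let _ : Algebra K Γ(Y.left, ⊤) := (str K Y).toAlgebra
  have : IsFinite (Spec.map (CommRingCat.ofHom (str K Y))) := by
    rw [← isoSpec_inv_hom]; infer_instance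
  have hfin : Module.Finite K Γ(Y.left, ⊤) := (IsFinite.SpecMap_iff _).mp this
  let g : Γ(Y.left, ⊤) →ₐ[K] Kbar := { ev K (Y := Y) s with commutes' := ev_str K s }
  obtain ⟨n, b, hb⟩ := Module.Finite.exists_fin (R := K) (M := Γ(Y.left, ⊤))
  let L : IntermediateField K Kbar := IntermediateField.adjoin K (Set.range fun i => g (b i))
  have : FiniteDimensional K L :=
    IntermediateField.finiteDimensional_adjoin fun x _ => Algebra.IsIntegral.isIntegral x
  refine Subgroup.isOpen_mono (H₁ := (L.fixingSubgroup : Subgroup (Field.absoluteGaloisGroup K))) ?_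
    L.fixingSubgroup_isOpen
  intro σ hσ
  refine ev_injective K (RingHom.ext fun a => ?_)
  rw [ev_smul]
  have ha : a ∈ Submodule.span K (Set.range b) := hb ▸ trivial
  let eq : Submodule K Γ(Y.left, ⊤) :=
    LinearMap.eqLocus ((aut K σ).toLinearMap.comp g.toLinearMap) g.toLinearMap
  have hle : Submodule.span K (Set.range b) ≤ eq := Submodule.span_le.mpr (by
    rintro _ ⟨i, rfl⟩
    exact hσ ⟨g (b i), IntermediateField.subset_adjoin K _ ⟨i, rfl⟩⟩)
  exact hle ha

theorem default_eq_of_isConnected (Y : FEt.Cat (Spec (CommRingCat.of K))) [PreGaloisCategory.IsConnected Y]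
    (s t : FEt.fiberObj (pt K) Y) : s.1 default = t.1 default := by
  have hY : DiscreteTopology Y.left := by
    have : IsLocallyArtinian Y.left := IsLocallyArtinian.of_locallyQuasiFinite (hom' K Y)
    infer_instance
  let U : Y.left.Opens := ⟨{s.1 default}, isOpen_discrete _⟩
  have hU : IsClosed (U : Set Y.left) := isClosed_discrete _
  have : IsOpenImmersion (Basic.subι Y U hU).left := inferInstanceAs (IsOpenImmersion U.ι)
  have : Mono (Basic.subι Y U hU) := ⟨fun a b hab => Basic.hom_ext ((cancel_mono (Basic.subι Y U hU).left).mp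
    ((congrArg (fun φ => φ.left) hab)))⟩
  have hne : IsInitial (Basic.sub Y U hU) → False := fun hI => by
    have h1 := (hI.to (Basic.empty (Spec (CommRingCat.of K)))).left ⟨s.1 default, rfl⟩
    exact isEmptyElim h1
  have : IsIso (Basic.subι Y U hU) := PreGaloisCategory.IsConnected.noTrivialComponent _ _ hne
  have := Basic.isIso_left (Basic.subι Y U hU)
  obtain ⟨u, hu⟩ := (Basic.subι Y U hU).left.surjective (t.1 default)
  exact u.2.symm.trans (show u.1 = t.1 default from hu)

theorem ker_ev {Y : FEt.Cat (Spec (CommRingCat.of K))} (s : FEt.fiberObj (pt K) Y) :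
    RingHom.ker (ev K s) = (Y.left.isoSpec.hom (s.1 default)).asIdeal := by
  rw [← Scheme.Hom.comp_apply,
    show s.1 ≫ Y.left.isoSpec.hom = Spec.map (CommRingCat.ofHom (ev K s)) from (Spec.map_preimage _).symm]
  change _ = Ideal.comap (ev K s) (default : Spec (CommRingCat.of Kbar)).asIdeal
  have : (default : Spec (CommRingCat.of Kbar)).asIdeal.IsPrime := PrimeSpectrum.isPrime _
  have h3 : (default : Spec (CommRingCat.of Kbar)).asIdeal = ⊥ := Ideal.eq_bot_of_prime _
  rw [h3]
  rfl

theorem transitive (Y : FEt.Cat (Spec (CommRingCat.of K))) [PreGaloisCategory.IsConnected Y]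
    (s t : FEt.fiberObj (pt K) Y) :
    ∃ σ : Field.absoluteGaloisGroup K, (act K σ s) = t := by
  let _ : Algebra K Γ(Y.left, ⊤) := (str K Y).toAlgebra
  let g : Γ(Y.left, ⊤) →ₐ[K] Kbar := { ev K (Y := Y) s with commutes' := ev_str K s }
  let h : Γ(Y.left, ⊤) →ₐ[K] Kbar := { ev K (Y := Y) t with commutes' := ev_str K t }
  have hker : RingHom.ker g = RingHom.ker h := by
    change RingHom.ker (ev K s) = RingHom.ker (ev K t)
    rw [ker_ev, ker_ev, default_eq_of_isConnected K Y s t]
  let E : IntermediateField K Kbar :=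
    Subalgebra.toIntermediateField g.range fun x hx => Subalgebra.inv_mem_of_algebraic g.range (x := ⟨x, hx⟩)
      (Algebra.IsAlgebraic.isAlgebraic x)
  have hmem : ∀ a, g a ∈ E := fun a => ⟨a, rfl⟩
  let pre : E → Γ(Y.left, ⊤) := fun x => Classical.choose (show ∃ a, g a = x.1 from x.2)
  have hpre : ∀ x, g (pre x) = x.1 := fun x => Classical.choose_spec (show ∃ a, g a = x.1 from x.2)
  have hwd : ∀ {a b}, g a = g b → h a = h b := fun {a b} e => by
    rw [← sub_eq_zero, ← map_sub, ← RingHom.mem_ker] at e ⊢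
    rwa [hker] at e
  let ψ : E →ₐ[K] Kbar :=
    { toFun := fun x => h (pre x)
      map_one' := (hwd ((hpre 1).trans (map_one g).symm)).trans (map_one h)
      map_mul' := fun x y => (hwd ((hpre _).trans (by rw [map_mul, hpre, hpre]; rfl))).trans (map_mul h _ _)
      map_zero' := (hwd ((hpre 0).trans (map_zero g).symm)).trans (map_zero h)
      map_add' := fun x y => (hwd ((hpre _).trans (by rw [map_add, hpre, hpre]; rfl))).trans (map_add h _ _)
      commutes' := fun k => (hwd ((hpre _).trans (g.commutes k).symm)).trans (h.commutes k) }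
  obtain ⟨φ, hφ⟩ := IsAlgClosed.surjective_domRestrict_of_isAlgebraic (K := K) (L := E) (E := Kbar) ψ
  let σ : Kbar ≃ₐ[K] Kbar := AlgEquiv.ofBijective φ (Algebra.IsAlgebraic.algHom_bijective φ)
  refine ⟨σ, ev_injective K (RingHom.ext fun a => ?_)⟩
  rw [ev_smul]
  change φ (g a) = h a
  have h1 : φ (g a) = ψ ⟨g a, hmem a⟩ := (AlgHom.congr_fun hφ ⟨g a, hmem a⟩)
  rw [h1]
  exact hwd (hpre _)

theorem non_trivial (σ : Field.absoluteGaloisGroup K)
    (hσ : ∀ (Y : FEt.Cat (Spec (CommRingCat.of K))) (s : (Basic.fibre (pt K)).obj Y), σ • s = s) : σ = 1 := by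
  refine Basic.eq_of_eq_on_separable K σ 1 fun x hx => ?_
  have hx' : IsSeparable K x := mem_separableClosure_iff.mp hx
  let E := IntermediateField.adjoin K {x}
  have : FiniteDimensional K E := IntermediateField.adjoin.finiteDimensional hx'.isIntegral
  have : Algebra.IsSeparable K E := IntermediateField.isSeparable_adjoin_simple_iff_isSeparable K _ |>.mpr hx'
  have : Algebra.FormallyUnramified K E := Algebra.FormallyUnramified.of_isSeparable K E
  have : Algebra.Etale K E :=
    have : Algebra.FinitePresentation K E := Algebra.FinitePresentation.of_finiteType.mp inferInstance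
    Algebra.Etale.of_formallyUnramified_of_flat
  let f := Spec.map (CommRingCat.ofHom (algebraMap K E))
  have : IsFinite f := (IsFinite.SpecMap_iff _).mpr (RingHom.finite_algebraMap.mpr inferInstance)
  have : Etale f := (HasRingHomProperty.Spec_iff (P := @Etale)).mpr (RingHom.etale_algebraMap.2 inferInstance)
  let s : FEt.fiberObj (pt K) (FEtCat.Basic.mk f) :=
    ⟨Spec.map (CommRingCat.ofHom E.val.toRingHom), by
      change _ ≫ f = _
      rw [← Spec.map_comp]
      rfl⟩
  have h := congrArg Subtype.val (hσ (FEtCat.Basic.mk f) s)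
  have h2 : Spec.map (CommRingCat.ofHom E.val.toRingHom ≫ CommRingCat.ofHom (aut K σ).toRingEquiv.toRingHom) =
      Spec.map (CommRingCat.ofHom E.val.toRingHom) := (Spec.map_comp _ _).trans h
  exact RingHom.congr_fun (congrArg CommRingCat.Hom.hom (Spec.map_injective h2))
    ⟨x, IntermediateField.mem_adjoin_simple_self K x⟩

theorem galoisCategory : GaloisCategory (FEt.Cat (Spec (CommRingCat.of K))) := Galois.galoisCategory

attribute [local instance] galoisCategory in
theorem isFundamentalGroup :
    PreGaloisCategory.IsFundamentalGroup (Basic.fibre (pt K)) (Field.absoluteGaloisGroup K) where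
  transitive_of_isGalois Y := ⟨fun s t => transitive K Y s t⟩
  continuous_smul Y := continuousSMul K Y
  non_trivial' σ h := non_trivial K σ h

end Groth.Agent.GalField.Fundamental
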